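import Cfsg.Agent.H88.RIM.T3
import Cfsg.Agent.H665.RIM.Defs
import Cfsg.Agent.H354.RIM.AltEight

/-!
# S4816, module side of `A_6` at `p = 5`: permutations (helper354)
-/

set_option autoImplicit false

namespace Cfsg.Agent.H354.RIM.Six

open Cfsg Cfsg.Agent.H88.RIM Cfsg.Agent.H665.RIM
open scoped Pointwise commutatorElement

universe u v

/-- `(0 1 2)` -/
def ga : Equiv.Perm (Fin 6) := ⟨![1, 2, 0, 3, 4, 5], ![2, 0, 1, 3, 4, 5], by decide, by decide⟩

/-- `(3 4 5)` -/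
def gb : Equiv.Perm (Fin 6) := ⟨![0, 1, 2, 4, 5, 3], ![0, 1, 2, 5, 3, 4], by decide, by decide⟩

/-- a five-cycle -/
def gx : Equiv.Perm (Fin 6) := ⟨![1, 2, 3, 4, 0, 5], ![4, 0, 1, 2, 3, 5], by decide, by decide⟩

/-- a five-cycle -/
def gx2 : Equiv.Perm (Fin 6) := ⟨![2, 5, 4, 3, 1, 0], ![5, 4, 0, 3, 2, 1], by decide, by decide⟩

/-- conjugates `gx` to `gx2` -/
def gh : Equiv.Perm (Fin 6) := ⟨![0, 2, 4, 1, 5, 3], ![0, 3, 1, 5, 2, 4], by decide, by decide⟩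

theorem block_aux : ∀ x : Equiv.Perm (Fin 6), x ^ 5 = 1 → x ≠ 1 → ∀ B : Finset (Fin 6),
    (B.image ga = B ∨ Disjoint (B.image ga) B) → (B.image gb = B ∨ Disjoint (B.image gb) B) →
    (B.image x = B ∨ Disjoint (B.image x) B) → B.card ≤ 1 ∨ B = Finset.univ := by
  decide +kernel

theorem trans_aux : ∀ x : Equiv.Perm (Fin 6), x ^ 5 = 1 → x ≠ 1 → ∀ y : Fin 6, ∃ i k : Fin 3, ∃ j : Fin 5,
    (gb ^ (k : ℕ) * x ^ (j : ℕ) * ga ^ (i : ℕ)) 0 = y := by decide +kernel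

theorem isPreprimitive_of {G : Subgroup (Equiv.Perm (Fin 6))} (h1 : ga ∈ G) (h2 : gb ∈ G) {x : Equiv.Perm (Fin 6)}
    (hx : x ∈ G) (hx5 : x ^ 5 = 1) (hx1 : x ≠ 1) : MulAction.IsPreprimitive G (Fin 6) := by
  have h0 : ∀ y : Fin 6, ∃ g : G, g • (0 : Fin 6) = y := by
    intro y
    obtain ⟨i, k, j, h⟩ := trans_aux x hx5 hx1 y
    exact ⟨⟨gb ^ (k : ℕ) * x ^ (j : ℕ) * ga ^ (i : ℕ),
      G.mul_mem (G.mul_mem (G.pow_mem h2 _) (G.pow_mem hx _)) (G.pow_mem h1 _)⟩, h⟩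
  have htr : MulAction.IsPretransitive G (Fin 6) := by
    refine ⟨fun x y => ?_⟩
    obtain ⟨a, ha⟩ := h0 x
    obtain ⟨b, hb⟩ := h0 y
    exact ⟨b * a⁻¹, by rw [← ha, ← hb, smul_smul, inv_mul_cancel_right]⟩
  refine { isTrivialBlock_of_isBlock := ?_ }
  intro B hB
  classical
  have key : ∀ g ∈ G, B.toFinset.image g = B.toFinset ∨ Disjoint (B.toFinset.image g) B.toFinset := by
    intro g hg
    have h3 := hB.smul_eq_or_disjoint ⟨g, hg⟩
    have h4 : ((B.toFinset.image g : Finset (Fin 6)) : Set (Fin 6)) = (⟨g, hg⟩ : G) • B := by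
      rw [Finset.coe_image, Set.coe_toFinset]
      rfl
    rcases h3 with h3 | h3
    · left
      apply Finset.coe_injective
      rw [h4, h3, Set.coe_toFinset]
    · right
      rw [← Finset.disjoint_coe, h4, Set.coe_toFinset]
      exact h3
  rcases block_aux x hx5 hx1 B.toFinset (key ga h1) (key gb h2) (key x hx) with h | h
  · left
    rw [Finset.card_le_one_iff_subsingleton_coe] at h
    intro x hx y hy
    have := h.elim ⟨x, by simpa using hx⟩ ⟨y, by simpa using hy⟩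
    exact congrArg Subtype.val this
  · right
    rw [← Set.coe_toFinset B, h, Finset.coe_univ]

theorem ga_three : ga.IsThreeCycle := by
  rw [← card_support_eq_three_iff]
  decide +kernel

/-- a subgroup with `(012)`, `(345)` and a five-cycle -/
theorem alt_of {G : Subgroup (Equiv.Perm (Fin 6))} (h1 : ga ∈ G) (h2 : gb ∈ G) {x : Equiv.Perm (Fin 6)}
    (hx : x ∈ G) (hx5 : x ^ 5 = 1) (hx1 : x ≠ 1) : alternatingGroup (Fin 6) ≤ G :=
  Equiv.Perm.alternatingGroup_le_of_isPreprimitive_of_isThreeCycle_mem (isPreprimitive_of h1 h2 hx hx5 hx1)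
    ga_three h1

/-- two five-cycles generate -/
theorem alt_le {G : Subgroup (Equiv.Perm (Fin 6))} (h1 : gx ∈ G) (h2 : gx2 ∈ G) : alternatingGroup (Fin 6) ≤ G := by
  have hba : ∀ B : Finset (Fin 6), (B.image gx = B ∨ Disjoint (B.image gx) B) →
      (B.image gx2 = B ∨ Disjoint (B.image gx2) B) → B.card ≤ 1 ∨ B = Finset.univ := by decide +kernel
  have htr0 : ∀ y : Fin 6, ∃ i j : Fin 5, (gx2 ^ (i : ℕ) * gx ^ (j : ℕ)) 0 = y := by decide +kernel
  have h0 : ∀ y : Fin 6, ∃ g : G, g • (0 : Fin 6) = y := by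
    intro y
    obtain ⟨i, j, h⟩ := htr0 y
    exact ⟨⟨gx2 ^ (i : ℕ) * gx ^ (j : ℕ), G.mul_mem (G.pow_mem h2 _) (G.pow_mem h1 _)⟩, h⟩
  have htr : MulAction.IsPretransitive G (Fin 6) := by
    refine ⟨fun x y => ?_⟩
    obtain ⟨a, ha⟩ := h0 x
    obtain ⟨b, hb⟩ := h0 y
    exact ⟨b * a⁻¹, by rw [← ha, ← hb, smul_smul, inv_mul_cancel_right]⟩
  have hpr : MulAction.IsPreprimitive G (Fin 6) := by
    refine { isTrivialBlock_of_isBlock := ?_ }
    intro B hB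
    classical
    have key : ∀ g ∈ G, B.toFinset.image g = B.toFinset ∨ Disjoint (B.toFinset.image g) B.toFinset := by
      intro g hg
      have h3 := hB.smul_eq_or_disjoint ⟨g, hg⟩
      have h4 : ((B.toFinset.image g : Finset (Fin 6)) : Set (Fin 6)) = (⟨g, hg⟩ : G) • B := by
        rw [Finset.coe_image, Set.coe_toFinset]
        rfl
      rcases h3 with h3 | h3
      · left
        apply Finset.coe_injective
        rw [h4, h3, Set.coe_toFinset]
      · right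
        rw [← Finset.disjoint_coe, h4, Set.coe_toFinset]
        exact h3
    rcases hba B.toFinset (key gx h1) (key gx2 h2) with h | h
    · left
      rw [Finset.card_le_one_iff_subsingleton_coe] at h
      intro x hx y hy
      have := h.elim ⟨x, by simpa using hx⟩ ⟨y, by simpa using hy⟩
      exact congrArg Subtype.val this
    · right
      rw [← Set.coe_toFinset B, h, Finset.coe_univ]
  refine Equiv.Perm.alternatingGroup_le_of_isPreprimitive_of_isThreeCycle_mem hpr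
    (g := gx2⁻¹ * gx * gx) ?_ (G.mul_mem (G.mul_mem (G.inv_mem h2) h1) h1)
  rw [← card_support_eq_three_iff]
  decide +kernel

abbrev A6 := alternatingGroup (Fin 6)

def xa : A6 := ⟨ga, by rw [Equiv.Perm.mem_alternatingGroup]; decide +kernel⟩
def xb : A6 := ⟨gb, by rw [Equiv.Perm.mem_alternatingGroup]; decide +kernel⟩
def xx : A6 := ⟨gx, by rw [Equiv.Perm.mem_alternatingGroup]; decide +kernel⟩
def xx2 : A6 := ⟨gx2, by rw [Equiv.Perm.mem_alternatingGroup]; decide +kernel⟩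
def xh : A6 := ⟨gh, by rw [Equiv.Perm.mem_alternatingGroup]; decide +kernel⟩

theorem card_A6 : Nat.card A6 = 360 := by
  have h : 2 * Nat.card A6 = Nat.card (Equiv.Perm (Fin 6)) := two_mul_nat_card_alternatingGroup (α := Fin 6)
  rw [Nat.card_perm, Nat.card_fin] at h
  have h8 : Nat.factorial 6 = 720 := by decide
  omega

theorem orderOf_xx : orderOf xx = 5 :=
  orderOf_eq_prime (Subtype.ext (show gx ^ 5 = 1 by decide +kernel)) (fun h => absurd (congrArg Subtype.val h)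
    (show gx ≠ 1 by decide +kernel))

theorem card_zx : Nat.card (Subgroup.zpowers xx) = 5 := by rw [Nat.card_zpowers, orderOf_xx]

theorem isPGroup_zx : IsPGroup 5 (Subgroup.zpowers xx) :=
  IsPGroup.of_card (n := 1) (by rw [card_zx, pow_one])

theorem index_zx : (Subgroup.zpowers xx).index = 72 := by
  have h := (Subgroup.zpowers xx).card_mul_index
  rw [card_zx, card_A6] at h
  omega

def P5 : Sylow 5 A6 := isPGroup_zx.toSylow (by rw [index_zx]; norm_num)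

theorem card_sylow_lt : Nat.card (Sylow 5 A6) < 125 := by
  have h1 := P5.card_dvd_index
  have h2 := card_sylow_modEq_one 5 A6
  have h3 : (P5 : Subgroup A6).index = 72 := index_zx
  rw [h3] at h1
  exact (Nat.le_of_dvd (by norm_num) h1).trans_lt (by norm_num)

/-- two Sylow subgroups generate -/
theorem sup_eq_top : (P5 : Subgroup A6) ⊔ MulAut.conj xh • (P5 : Subgroup A6) = ⊤ := by
  set D : Subgroup A6 := (P5 : Subgroup A6) ⊔ MulAut.conj xh • (P5 : Subgroup A6) with hD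
  have h1 : xx ∈ D := (le_sup_left : (P5 : Subgroup A6) ≤ D) (Subgroup.mem_zpowers xx)
  have h2 : xx2 ∈ D := by
    apply (le_sup_right : MulAut.conj xh • (P5 : Subgroup A6) ≤ D)
    refine ⟨xx, Subgroup.mem_zpowers xx, ?_⟩
    apply Subtype.ext
    show gh * gx * gh⁻¹ = gx2
    decide +kernel
  have h3 := alt_le (G := D.map (alternatingGroup (Fin 6)).subtype) ⟨xx, h1, rfl⟩ ⟨xx2, h2, rfl⟩
  rw [Subgroup.eq_top_iff']
  intro x
  obtain ⟨y, hy, hyx⟩ := h3 x.2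
  have : y = x := Subtype.ext hyx
  exact this ▸ hy

/-! ### the four-groups -/

/-- the products of two transpositions in a four-group, from a table -/
def v1 : Equiv.Perm (Fin 6) := ⟨![1, 0, 4, 3, 2, 5], ![1, 0, 4, 3, 2, 5], by decide, by decide⟩
def v2 : Equiv.Perm (Fin 6) := ⟨![2, 4, 0, 3, 1, 5], ![2, 4, 0, 3, 1, 5], by decide, by decide⟩
def v3 : Equiv.Perm (Fin 6) := ⟨![4, 2, 1, 3, 0, 5], ![4, 2, 1, 3, 0, 5], by decide, by decide⟩
def w1 : Equiv.Perm (Fin 6) := ⟨![3, 1, 2, 0, 5, 4], ![3, 1, 2, 0, 5, 4], by decide, by decide⟩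
def w2 : Equiv.Perm (Fin 6) := ⟨![4, 1, 2, 5, 0, 3], ![4, 1, 2, 5, 0, 3], by decide, by decide⟩
def w3 : Equiv.Perm (Fin 6) := ⟨![5, 1, 2, 4, 3, 0], ![5, 1, 2, 4, 3, 0], by decide, by decide⟩
def u1 : Equiv.Perm (Fin 6) := ⟨![0, 4, 5, 3, 1, 2], ![0, 4, 5, 3, 1, 2], by decide, by decide⟩
def u2 : Equiv.Perm (Fin 6) := ⟨![3, 1, 5, 0, 4, 2], ![3, 1, 5, 0, 4, 2], by decide, by decide⟩
def u3 : Equiv.Perm (Fin 6) := ⟨![3, 4, 2, 0, 1, 5], ![3, 4, 2, 0, 1, 5], by decide, by decide⟩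

/-- a four-group `{1, a, b, c}` as a subgroup of `A_6` -/
def four (a b c : Equiv.Perm (Fin 6)) (h : (a * a = 1 ∧ b * b = 1 ∧ c * c = 1) ∧ (a * b = c ∧ b * a = c) ∧
    (a * c = b ∧ c * a = b) ∧ (b * c = a ∧ c * b = a)) : Subgroup A6 where
  carrier := {g | (g : Equiv.Perm (Fin 6)) = 1 ∨ (g : Equiv.Perm (Fin 6)) = a ∨ (g : Equiv.Perm (Fin 6)) = b ∨
    (g : Equiv.Perm (Fin 6)) = c}
  one_mem' := Or.inl rfl
  mul_mem' := by
    obtain ⟨⟨h1, h2, h3⟩, ⟨h4, h5⟩, ⟨h6, h7⟩, h8, h9⟩ := h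
    rintro x y (hx | hx | hx | hx) (hy | hy | hy | hy) <;>
      simp only [Set.mem_ofPred_eq, Subgroup.coe_mul, hx, hy, one_mul, mul_one, h1, h2, h3, h4, h5, h6, h7, h8, h9,
        true_or, or_true]
  inv_mem' := by
    obtain ⟨⟨h1, h2, h3⟩, -⟩ := h
    have h1' : a⁻¹ = a := inv_eq_of_mul_eq_one_left h1
    have h2' : b⁻¹ = b := inv_eq_of_mul_eq_one_left h2
    have h3' : c⁻¹ = c := inv_eq_of_mul_eq_one_left h3
    rintro x (hx | hx | hx | hx) <;>
      simp only [Set.mem_ofPred_eq, Subgroup.coe_inv, hx, inv_one, h1', h2', h3', true_or, or_true]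

section mod

variable {V : Type v} [AddCommGroup V] [DistribMulAction A6 V]

/-- an element of order three normalising a four-group has a fixed vector -/
theorem fixed_of (hV : ∀ v : V, 5 • v = 0) (hf : ∀ h : A6, (∀ v : V, h • v = v) → h = 1)
    {y : A6} (hy : y ^ 3 = 1) {a b c : Equiv.Perm (Fin 6)} (h : (a * a = 1 ∧ b * b = 1 ∧ c * c = 1) ∧
      (a * b = c ∧ b * a = c) ∧ (a * c = b ∧ c * a = b) ∧ (b * c = a ∧ c * b = a))
    (hc : ((y : Equiv.Perm (Fin 6)) * a * (y : Equiv.Perm (Fin 6))⁻¹ = b ∧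
      (y : Equiv.Perm (Fin 6)) * b * (y : Equiv.Perm (Fin 6))⁻¹ = c ∧
      (y : Equiv.Perm (Fin 6)) * c * (y : Equiv.Perm (Fin 6))⁻¹ = a) ∨
      ((y : Equiv.Perm (Fin 6)) * a * (y : Equiv.Perm (Fin 6))⁻¹ = c ∧
      (y : Equiv.Perm (Fin 6)) * b * (y : Equiv.Perm (Fin 6))⁻¹ = a ∧
      (y : Equiv.Perm (Fin 6)) * c * (y : Equiv.Perm (Fin 6))⁻¹ = b)) (hab : a ≠ b) (hac : a ≠ c)
    (ha : a ∈ alternatingGroup (Fin 6)) : ∃ v : V, v ≠ 0 ∧ y • v = v := by
  refine exists_fixed (V := V) (p := 5) (s := 3) (by norm_num) (by norm_num) hy (four a b c h) ?_ ?_ ?_ hV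
    (fun g _ => hf g) ⟨⟨a, ha⟩, Or.inr (Or.inl rfl), ?_⟩
  · intro x hx
    have key : ∀ z : Equiv.Perm (Fin 6), (z = 1 ∨ z = a ∨ z = b ∨ z = c) →
        ((y : Equiv.Perm (Fin 6)) * z * (y : Equiv.Perm (Fin 6))⁻¹ = 1 ∨
        (y : Equiv.Perm (Fin 6)) * z * (y : Equiv.Perm (Fin 6))⁻¹ = a ∨
        (y : Equiv.Perm (Fin 6)) * z * (y : Equiv.Perm (Fin 6))⁻¹ = b ∨
        (y : Equiv.Perm (Fin 6)) * z * (y : Equiv.Perm (Fin 6))⁻¹ = c) := by
      rintro z (rfl | rfl | rfl | rfl)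
      · left; rw [mul_one, mul_inv_cancel]
      · rcases hc with ⟨h1, -, -⟩ | ⟨h1, -, -⟩ <;> rw [h1] <;> simp
      · rcases hc with ⟨-, h1, -⟩ | ⟨-, h1, -⟩ <;> rw [h1] <;> simp
      · rcases hc with ⟨-, -, h1⟩ | ⟨-, -, h1⟩ <;> rw [h1] <;> simp
    exact key x hx
  · obtain ⟨⟨h1, h2, h3⟩, ⟨h4, h5⟩, ⟨h6, h7⟩, h8, h9⟩ := h
    rintro x (hx | hx | hx | hx) y' (hy' | hy' | hy' | hy') <;>
      (apply Subtype.ext; rw [Subgroup.coe_mul, Subgroup.coe_mul, hx, hy']) <;>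
      simp only [one_mul, mul_one, h4, h5, h6, h7, h8, h9]
  · have h2 : IsPGroup 2 (four a b c h) := by
      obtain ⟨⟨h1, h2, h3⟩, -⟩ := id h
      rintro ⟨x, hx⟩
      refine ⟨1, ?_⟩
      apply Subtype.ext
      apply Subtype.ext
      show (x : Equiv.Perm (Fin 6)) ^ 2 ^ 1 = 1
      rw [pow_one, pow_two]
      rcases hx with hx | hx | hx | hx <;> rw [hx]
      · rfl
      · exact h1
      · exact h2
      · exact h3
    intro h5
    obtain ⟨n, hn⟩ := IsPGroup.iff_card.1 h2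
    rw [hn] at h5
    exact absurd ((by norm_num : Nat.Prime 5).dvd_of_dvd_pow h5) (by norm_num)
  · intro h1
    have h2 := congrArg Subtype.val h1
    have h3 : (y : Equiv.Perm (Fin 6)) * a * (y : Equiv.Perm (Fin 6))⁻¹ = a := h2
    rcases hc with ⟨h4, -, -⟩ | ⟨h4, -, -⟩
    · exact hab (h3.symm.trans h4)
    · exact hac (h3.symm.trans h4)

theorem fixed_a (hV : ∀ v : V, 5 • v = 0) (hf : ∀ h : A6, (∀ v : V, h • v = v) → h = 1) :
    ∃ v : V, v ≠ 0 ∧ xa • v = v :=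
  fixed_of hV hf (y := xa) (Subtype.ext (show ga ^ 3 = 1 by decide +kernel)) (a := v1) (b := v2) (c := v3)
    (by decide +kernel) (by show (ga * v1 * ga⁻¹ = v2 ∧ ga * v2 * ga⁻¹ = v3 ∧ ga * v3 * ga⁻¹ = v1) ∨
      (ga * v1 * ga⁻¹ = v3 ∧ ga * v2 * ga⁻¹ = v1 ∧ ga * v3 * ga⁻¹ = v2); decide +kernel) (by decide +kernel)
    (by decide +kernel) (by rw [Equiv.Perm.mem_alternatingGroup]; decide +kernel)

theorem fixed_b (hV : ∀ v : V, 5 • v = 0) (hf : ∀ h : A6, (∀ v : V, h • v = v) → h = 1) :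
    ∃ v : V, v ≠ 0 ∧ xb • v = v :=
  fixed_of hV hf (y := xb) (Subtype.ext (show gb ^ 3 = 1 by decide +kernel)) (a := w1) (b := w2) (c := w3)
    (by decide +kernel) (by show (gb * w1 * gb⁻¹ = w2 ∧ gb * w2 * gb⁻¹ = w3 ∧ gb * w3 * gb⁻¹ = w1) ∨
      (gb * w1 * gb⁻¹ = w3 ∧ gb * w2 * gb⁻¹ = w1 ∧ gb * w3 * gb⁻¹ = w2); decide +kernel) (by decide +kernel)
    (by decide +kernel) (by rw [Equiv.Perm.mem_alternatingGroup]; decide +kernel)

theorem fixed_ab (hV : ∀ v : V, 5 • v = 0) (hf : ∀ h : A6, (∀ v : V, h • v = v) → h = 1) :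
    ∃ v : V, v ≠ 0 ∧ (xa * xb) • v = v :=
  fixed_of hV hf (y := xa * xb) (Subtype.ext (show (ga * gb) ^ 3 = 1 by decide +kernel)) (a := u1) (b := u2) (c := u3)
    (by decide +kernel) (by show ((ga * gb) * u1 * (ga * gb)⁻¹ = u2 ∧ (ga * gb) * u2 * (ga * gb)⁻¹ = u3 ∧
      (ga * gb) * u3 * (ga * gb)⁻¹ = u1) ∨ ((ga * gb) * u1 * (ga * gb)⁻¹ = u3 ∧ (ga * gb) * u2 * (ga * gb)⁻¹ = u1 ∧
      (ga * gb) * u3 * (ga * gb)⁻¹ = u2); decide +kernel) (by decide +kernel)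
    (by decide +kernel) (by rw [Equiv.Perm.mem_alternatingGroup]; decide +kernel)

end mod

end Cfsg.Agent.H354.RIM.Six
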